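import Mathlib
import Groth.Prelude.Def_SGA3b
import Groth.Agent.Lib.Helper6.MultType.Basic

/-!
# Group-like elements under base change (helper6)

Pushing group-like elements forward along ring homomorphisms of the base, reflecting them along
injective ones, and the span of the group-like elements.
-/

set_option autoImplicit false
set_option linter.unusedSectionVars false
set_option linter.unusedVariables false
set_option linter.unusedSimpArgs false
set_option linter.style.haveILetI false
set_option maxHeartbeats 400000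
universe u
open TensorProduct SGA3b Coalgebra
open Groth.Agent.Lib.Helper6.MultType

namespace Groth.Agent.Lib.Helper6.Isotriv

section BaseChange

variable {R : Type u} [CommRing R] (R' : Type u) [CommRing R'] [Algebra R R']
variable {X : Type u} [CommRing X] [Bialgebra R X]

lemma isGroupLikeElem_one_tmul {x : X} (hx : IsGroupLikeElem R x) :
    IsGroupLikeElem R' ((1 : R') ⊗ₜ[R] x) where
  counit_eq_one := by rw [counit_one_tmul, hx.counit_eq_one, map_one]
  comul_eq_tmul_self := by rw [comul_one_tmul, hx.comul_eq_tmul_self, T₀_tmul]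

lemma T₀_eq (y : X ⊗[R] X) :
    T₀ R R' X y = TensorProduct.AlgebraTensorModule.distribBaseChange R R' X X ((1 : R') ⊗ₜ[R] y) := by
  induction y using TensorProduct.induction_on with
  | zero => simp
  | tmul a b => simp
  | add y z hy hz => rw [map_add, hy, hz, TensorProduct.tmul_add, map_add]

lemma T₀_injective [Module.Flat R X] (hinj : Function.Injective (algebraMap R R')) :
    Function.Injective (T₀ R R' X) := by
  have h1 : Function.Injective ((Algebra.linearMap R R').rTensor (X ⊗[R] X)) :=
    Module.Flat.rTensor_preserves_injective_linearMap _ hinj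
  intro y z hyz
  rw [T₀_eq, T₀_eq] at hyz
  have h2 := (TensorProduct.AlgebraTensorModule.distribBaseChange R R' X X).injective hyz
  have h3 : ∀ w : X ⊗[R] X, ((1 : R') ⊗ₜ[R] w) =
      (Algebra.linearMap R R').rTensor (X ⊗[R] X) ((TensorProduct.lid R (X ⊗[R] X)).symm w) := by
    intro w
    simp
  rw [h3 y, h3 z] at h2
  exact (TensorProduct.lid R (X ⊗[R] X)).symm.injective (h1 h2)

lemma isGroupLikeElem_of_one_tmul [Module.Flat R X] (hinj : Function.Injective (algebraMap R R'))
    {x : X} (hx : IsGroupLikeElem R' ((1 : R') ⊗ₜ[R] x)) : IsGroupLikeElem R x where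
  counit_eq_one := by
    have h := hx.counit_eq_one
    rw [counit_one_tmul, ← map_one (algebraMap R R')] at h
    exact hinj h
  comul_eq_tmul_self := by
    have h := hx.comul_eq_tmul_self
    rw [comul_one_tmul, ← T₀_tmul] at h
    exact T₀_injective R' hinj h

end BaseChange

section Push

variable {k : Type u} [CommRing k] (A : Type u) [CommRing A] [Bialgebra k A]
variable {S₁ S₂ S₃ : Type u} [CommRing S₁] [CommRing S₂] [CommRing S₃]
  [Algebra k S₁] [Algebra k S₂] [Algebra k S₃]

/-- `φ ⊗ id : S₁ ⊗ A → S₂ ⊗ A`. -/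
noncomputable def push (φ : S₁ →ₐ[k] S₂) : S₁ ⊗[k] A →ₐ[k] S₂ ⊗[k] A :=
  Algebra.TensorProduct.map φ (AlgHom.id k A)

@[simp] lemma push_tmul (φ : S₁ →ₐ[k] S₂) (s : S₁) (a : A) : push A φ (s ⊗ₜ a) = φ s ⊗ₜ a := by
  simp [push]

lemma push_smul (φ : S₁ →ₐ[k] S₂) (s : S₁) (x : S₁ ⊗[k] A) :
    push A φ (s • x) = φ s • push A φ x := by
  rw [Algebra.smul_def, map_mul, Algebra.smul_def, Algebra.TensorProduct.algebraMap_apply,
    Algebra.TensorProduct.algebraMap_apply, push_tmul]
  simp

lemma push_comp (φ : S₁ →ₐ[k] S₂) (ψ : S₂ →ₐ[k] S₃) (x : S₁ ⊗[k] A) :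
    push A (ψ.comp φ) x = push A ψ (push A φ x) := by
  induction x using TensorProduct.induction_on with
  | zero => simp
  | tmul s a => simp
  | add y z hy hz => rw [map_add, hy, hz, map_add, map_add]

lemma push_injective [Module.Flat k A] (φ : S₁ →ₐ[k] S₂) (hφ : Function.Injective φ) :
    Function.Injective (push A φ) := by
  have h1 : Function.Injective (φ.toLinearMap.rTensor A) :=
    Module.Flat.rTensor_preserves_injective_linearMap _ hφ
  intro x y hxy
  apply h1
  have : ∀ z : S₁ ⊗[k] A, φ.toLinearMap.rTensor A z = push A φ z := by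
    intro z
    induction z using TensorProduct.induction_on with
    | zero => simp
    | tmul s a => simp
    | add y z hy hz => rw [map_add, hy, hz, map_add]
  rw [this, this, hxy]

lemma push_eq_cancel (φ : S₁ →ₐ[k] S₂) (x : S₁ ⊗[k] A) :
    letI : Algebra S₁ S₂ := φ.toRingHom.toAlgebra
    haveI : IsScalarTower k S₁ S₂ := IsScalarTower.of_algebraMap_eq fun r => (φ.commutes r).symm
    push A φ x = cancelBaseChangeBialgEquiv k S₁ A S₂ ((1 : S₂) ⊗ₜ[S₁] x) := by
  letI : Algebra S₁ S₂ := φ.toRingHom.toAlgebra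
  haveI : IsScalarTower k S₁ S₂ := IsScalarTower.of_algebraMap_eq fun r => (φ.commutes r).symm
  induction x using TensorProduct.induction_on with
  | zero => rw [TensorProduct.tmul_zero, map_zero, map_zero]
  | tmul s a =>
    rw [push_tmul, cancelBaseChangeBialgEquiv_tmul, Algebra.smul_def, mul_one]
    rfl
  | add y z hy hz => rw [map_add, hy, hz, TensorProduct.tmul_add, map_add]

lemma push_groupLike (φ : S₁ →ₐ[k] S₂) {x : S₁ ⊗[k] A} (hx : IsGroupLikeElem S₁ x) :
    IsGroupLikeElem S₂ (push A φ x) := by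
  letI : Algebra S₁ S₂ := φ.toRingHom.toAlgebra
  haveI : IsScalarTower k S₁ S₂ := IsScalarTower.of_algebraMap_eq fun r => (φ.commutes r).symm
  rw [push_eq_cancel]
  exact (isGroupLikeElem_one_tmul S₂ hx).map (cancelBaseChangeBialgEquiv k S₁ A S₂)

lemma groupLike_of_push [Module.Flat k A] (φ : S₁ →ₐ[k] S₂) (hφ : Function.Injective φ)
    {x : S₁ ⊗[k] A} (hx : IsGroupLikeElem S₂ (push A φ x)) : IsGroupLikeElem S₁ x := by
  letI : Algebra S₁ S₂ := φ.toRingHom.toAlgebra
  haveI : IsScalarTower k S₁ S₂ := IsScalarTower.of_algebraMap_eq fun r => (φ.commutes r).symm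
  rw [push_eq_cancel] at hx
  have h2 : IsGroupLikeElem S₂ ((1 : S₂) ⊗ₜ[S₁] x) :=
    (isGroupLikeElem_map_equiv (cancelBaseChangeBialgEquiv k S₁ A S₂)).mp hx
  exact isGroupLikeElem_of_one_tmul S₂ hφ h2

end Push

end Groth.Agent.Lib.Helper6.Isotriv
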