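import Mathlib
import Groth.Prelude.Def_SGA3b
import Groth.Agent.Lib.Helper6.Isotriv.GroupLike

/-!
# The span of the group-like elements of a base change (helper6)
-/

set_option autoImplicit false
set_option linter.unusedSectionVars false
set_option linter.unusedVariables false
set_option linter.unusedSimpArgs false
set_option linter.style.haveILetI false
set_option maxHeartbeats 400000
universe u
open TensorProduct SGA3b Coalgebra
open Groth.Agent.Lib.Helper6.MultType

namespace Groth.Agent.Lib.Helper6.Isotriv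

section Span

variable {k : Type u} [CommRing k] (A : Type u) [CommRing A] [Bialgebra k A]
variable (S : Type u) [CommRing S] [Algebra k S]
variable {S₁ S₂ : Type u} [CommRing S₁] [CommRing S₂] [Algebra k S₁] [Algebra k S₂]

variable (k) in
/-- The span of the group-like elements of `S ⊗ A`. -/
noncomputable def Sp : Submodule S (S ⊗[k] A) :=
  Submodule.span S {x : S ⊗[k] A | IsGroupLikeElem S x}

lemma Sp_eq_adjoin : Sp k A S =
    Subalgebra.toSubmodule (Algebra.adjoin S {x : S ⊗[k] A | IsGroupLikeElem S x}) := by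
  rw [Algebra.adjoin_eq_span]
  have : Submonoid.closure {x : S ⊗[k] A | IsGroupLikeElem S x} =
      groupLikeSubmonoid S (S ⊗[k] A) := Submonoid.closure_eq (groupLikeSubmonoid S _)
  rw [this]
  rfl

lemma mem_Sp_iff {x : S ⊗[k] A} :
    x ∈ Sp k A S ↔ x ∈ Algebra.adjoin S {x : S ⊗[k] A | IsGroupLikeElem S x} := by
  rw [Sp_eq_adjoin]
  rfl

lemma groupLike_mem_Sp {x : S ⊗[k] A} (hx : IsGroupLikeElem S x) : x ∈ Sp k A S :=
  Submodule.subset_span hx

variable {A S} in
lemma push_mem_Sp (φ : S₁ →ₐ[k] S₂) {x : S₁ ⊗[k] A} (hx : x ∈ Sp k A S₁) :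
    push A φ x ∈ Sp k A S₂ := by
  refine Submodule.span_induction ?_ ?_ ?_ ?_ hx
  · intro y hy
    exact groupLike_mem_Sp (k := k) A S₂ (push_groupLike A φ hy)
  · rw [map_zero]; exact Submodule.zero_mem _
  · intro y z _ _ hy hz
    rw [map_add]; exact Submodule.add_mem _ hy hz
  · intro c y _ hy
    rw [push_smul]; exact Submodule.smul_mem _ _ hy

lemma Sp_eq_top_of_generators (s : Set A) (hs : Algebra.adjoin k s = ⊤)
    (h : ∀ a ∈ s, ((1 : S) ⊗ₜ[k] a) ∈ Sp k A S) : Sp k A S = ⊤ := by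
  set G := Algebra.adjoin S {x : S ⊗[k] A | IsGroupLikeElem S x} with hG
  let T : Subalgebra k A := Subalgebra.comap
    (Algebra.TensorProduct.includeRight : A →ₐ[k] S ⊗[k] A) (G.restrictScalars k)
  have hT : T = ⊤ := by
    rw [eq_top_iff, ← hs]
    apply Algebra.adjoin_le
    intro a ha
    have := (mem_Sp_iff A S).mp (h a ha)
    exact this
  rw [eq_top_iff]
  intro x hx
  clear hx
  rw [mem_Sp_iff]
  induction x using TensorProduct.induction_on with
  | zero => exact Subalgebra.zero_mem _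
  | tmul c a =>
    have h1 : a ∈ T := hT ▸ Algebra.mem_top
    have h2 : ((1 : S) ⊗ₜ[k] a) ∈ G := h1
    have h3 : c ⊗ₜ[k] a = c • ((1 : S) ⊗ₜ[k] a) := by
      rw [TensorProduct.smul_tmul', smul_eq_mul, mul_one]
    rw [h3]
    exact Subalgebra.smul_mem _ h2 c
  | add y z hy hz => exact Subalgebra.add_mem _ hy hz

end Span

section Spec

variable {k : Type u} [Field k] (A : Type u) [CommRing A] [Bialgebra k A]
variable (K : Type u) [Field K] [Algebra k K]

lemma push_val_mono {R₀ R₁ : Subalgebra k K} (h : R₀ ≤ R₁) (x : R₀ ⊗[k] A) :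
    push A R₁.val (push A (Subalgebra.inclusion h) x) = push A R₀.val x := by
  rw [← push_comp]
  rfl

lemma exists_fg_mem_range (x : K ⊗[k] A) :
    ∃ R₀ : Subalgebra k K, R₀.FG ∧ ∃ x' : R₀ ⊗[k] A, push A R₀.val x' = x := by
  induction x using TensorProduct.induction_on with
  | zero => exact ⟨⊥, Subalgebra.fg_bot, 0, map_zero _⟩
  | tmul c a =>
    refine ⟨Algebra.adjoin k {c}, ⟨{c}, by simp⟩, ?_⟩
    exact ⟨(⟨c, Algebra.subset_adjoin (Set.mem_singleton c)⟩ : Algebra.adjoin k {c}) ⊗ₜ[k] a,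
      by simp⟩
  | add y z hy hz =>
    obtain ⟨R₀, h0, y', rfl⟩ := hy
    obtain ⟨R₁, h1, z', rfl⟩ := hz
    refine ⟨R₀ ⊔ R₁, h0.sup h1, push A (Subalgebra.inclusion le_sup_left) y' +
      push A (Subalgebra.inclusion le_sup_right) z', ?_⟩
    rw [map_add, push_val_mono, push_val_mono]

/-- An element of `K ⊗ A` is good if it comes from the span of the group-like elements over a
finitely generated subalgebra. -/
def Good (x : K ⊗[k] A) : Prop :=
  ∃ R₀ : Subalgebra k K, R₀.FG ∧ ∃ x' ∈ Sp k A R₀, push A R₀.val x' = x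

lemma good_add {x y : K ⊗[k] A} (hx : Good A K x) (hy : Good A K y) : Good A K (x + y) := by
  obtain ⟨R₀, h0, x', hx', rfl⟩ := hx
  obtain ⟨R₁, h1, y', hy', rfl⟩ := hy
  refine ⟨R₀ ⊔ R₁, h0.sup h1, push A (Subalgebra.inclusion le_sup_left) x' +
    push A (Subalgebra.inclusion le_sup_right) y',
    Submodule.add_mem _ (push_mem_Sp _ hx') (push_mem_Sp _ hy'), ?_⟩
  rw [map_add, push_val_mono, push_val_mono]

lemma good_smul (c : K) {x : K ⊗[k] A} (hx : Good A K x) : Good A K (c • x) := by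
  obtain ⟨R₀, h0, x', hx', rfl⟩ := hx
  have hc : c ∈ R₀ ⊔ Algebra.adjoin k {c} :=
    (le_sup_right : Algebra.adjoin k {c} ≤ _) (Algebra.subset_adjoin (Set.mem_singleton c))
  refine ⟨R₀ ⊔ Algebra.adjoin k {c}, h0.sup ⟨{c}, by simp⟩,
    (⟨c, hc⟩ : ↥(R₀ ⊔ Algebra.adjoin k {c})) • push A (Subalgebra.inclusion le_sup_left) x',
    Submodule.smul_mem _ _ (push_mem_Sp _ hx'), ?_⟩
  rw [push_smul, push_val_mono]
  rfl

lemma good_groupLike {g : K ⊗[k] A} (hg : IsGroupLikeElem K g) : Good A K g := by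
  obtain ⟨R₀, h0, x', rfl⟩ := exists_fg_mem_range A K g
  refine ⟨R₀, h0, x', groupLike_mem_Sp (k := k) A _ ?_, rfl⟩
  exact groupLike_of_push A R₀.val Subtype.val_injective hg

lemma good_of_mem_Sp {x : K ⊗[k] A} (hx : x ∈ Sp k A K) : Good A K x := by
  refine Submodule.span_induction ?_ ?_ ?_ ?_ hx
  · intro y hy
    exact good_groupLike A K hy
  · exact ⟨⊥, Subalgebra.fg_bot, 0, Submodule.zero_mem _, map_zero _⟩
  · intro y z _ _ hy hz
    exact good_add A K hy hz
  · intro c y _ hy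
    exact good_smul A K c hy

lemma exists_fg_forall (hK : Sp k A K = ⊤) (s : Finset A) :
    ∃ R₀ : Subalgebra k K, R₀.FG ∧ ∀ a ∈ s, ((1 : R₀) ⊗ₜ[k] a) ∈ Sp k A R₀ := by
  classical
  induction s using Finset.induction_on with
  | empty => exact ⟨⊥, Subalgebra.fg_bot, by simp⟩
  | insert a s _ ih =>
    obtain ⟨R₀, h0, H0⟩ := ih
    obtain ⟨R₁, h1, x', hx', hx''⟩ := good_of_mem_Sp A K
      (show ((1 : K) ⊗ₜ[k] a) ∈ Sp k A K from hK ▸ Submodule.mem_top)
    have e1 : x' = (1 : R₁) ⊗ₜ[k] a := by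
      apply push_injective A R₁.val Subtype.val_injective
      rw [hx'', push_tmul, map_one]
    rw [e1] at hx'
    refine ⟨R₀ ⊔ R₁, h0.sup h1, ?_⟩
    intro b hb
    rw [Finset.mem_insert] at hb
    rcases hb with rfl | hb
    · have := push_mem_Sp (Subalgebra.inclusion (le_sup_right : R₁ ≤ R₀ ⊔ R₁)) hx'
      rwa [push_tmul, map_one] at this
    · have := push_mem_Sp (Subalgebra.inclusion (le_sup_left : R₀ ≤ R₀ ⊔ R₁)) (H0 b hb)
      rwa [push_tmul, map_one] at this

/-- Specialisation: if `K ⊗ A` is spanned by its group-like elements for some field extension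
`K` of `k` and `A` is of finite type, then the same holds for some finite extension of `k`. -/
theorem exists_finite_Sp_eq_top (hft : Algebra.FiniteType k A) (hK : Sp k A K = ⊤) :
    ∃ (K₀ : Type u) (_ : Field K₀) (_ : Algebra k K₀), Module.Finite k K₀ ∧ Sp k A K₀ = ⊤ := by
  obtain ⟨s, hs⟩ := hft.out
  obtain ⟨R₀, h0, H0⟩ := exists_fg_forall A K hK s
  obtain ⟨𝔪, h𝔪⟩ := Ideal.exists_maximal R₀
  letI : Field (R₀ ⧸ 𝔪) := Ideal.Quotient.field 𝔪
  haveI : Algebra.FiniteType k R₀ := (Subalgebra.fg_iff_finiteType R₀).mp h0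
  haveI : Algebra.FiniteType k (R₀ ⧸ 𝔪) :=
    Algebra.FiniteType.of_surjective (Ideal.Quotient.mkₐ k 𝔪) (Ideal.Quotient.mkₐ_surjective k 𝔪)
  refine ⟨R₀ ⧸ 𝔪, inferInstance, inferInstance,
    finite_of_finite_type_of_isJacobsonRing k (R₀ ⧸ 𝔪), ?_⟩
  apply Sp_eq_top_of_generators A (R₀ ⧸ 𝔪) (s : Set A) hs
  intro a ha
  have := push_mem_Sp (Ideal.Quotient.mkₐ k 𝔪) (H0 a ha)
  rwa [push_tmul, map_one] at this

end Spec

end Groth.Agent.Lib.Helper6.Isotriv
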