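import Mathlib
import Groth.Prelude.Def_SGA3b
import Groth.Agent.Lib.Helper6.Isotriv.Span
import Groth.Agent.Lib.Helper6.MultType.Prim
import Groth.Agent.Lib.Helper6.MultType.Field

/-!
# Purely inseparable descent of group-like elements (helper6)
-/

set_option autoImplicit false
set_option linter.unusedSectionVars false
set_option linter.unusedVariables false
set_option linter.unusedSimpArgs false
set_option linter.style.haveILetI false
set_option maxHeartbeats 400000
universe u
open TensorProduct SGA3b Coalgebra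
open Groth.Agent.Lib.Helper6.MultType

namespace Groth.Agent.Lib.Helper6.Isotriv

section Idem

variable {R : Type u} [CommRing R] {M : Type u} [CommGroup M]

lemma coeff_idem {x : MonoidAlgebra R M} (hx : IsGroupLikeElem R x) (m : M) :
    x.coeff m * x.coeff m = x.coeff m := by
  have h1 := coeffL₂_comul R M m x
  rw [hx.comul_eq_tmul_self, coeffL₂_tmul] at h1
  exact h1

lemma eq_of_idem_of_nilpotent {e e' : R} (he : e * e = e) (he' : e' * e' = e')
    (hd : IsNilpotent (e - e')) : e = e' := by
  set d := e - e' with hdd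
  have hd3 : d * d * d = d := by
    rw [hdd]
    linear_combination (e - 3 * e' + 1) * he + (3 * e - e' - 1) * he'
  have hodd : ∀ n : ℕ, d ^ (2 * n + 1) = d := by
    intro n
    induction n with
    | zero => simp
    | succ n ih =>
      have : d ^ (2 * (n + 1) + 1) = d ^ (2 * n) * (d * d * d) := by ring
      rw [this, hd3, ← pow_succ, ih]
  obtain ⟨n, hn⟩ := hd
  have h0 : d = 0 := by
    rw [← hodd n, show 2 * n + 1 = n + (n + 1) by ring, pow_add, hn, zero_mul]
  exact sub_eq_zero.mp h0

theorem diag_groupLike_eq_of_nil {x y : MonoidAlgebra R M} (hx : IsGroupLikeElem R x)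
    (hy : IsGroupLikeElem R y)
    (h : x - y ∈ Ideal.map (algebraMap R (MonoidAlgebra R M)) (nilradical R)) : x = y := by
  apply MonoidAlgebra.coeff_injective
  ext m
  apply eq_of_idem_of_nilpotent (coeff_idem hx m) (coeff_idem hy m)
  have h1 := linearMap_mem_of_mem_map R (nilradical R) (coeffL R M m) h
  rw [map_sub, coeffL_apply, coeffL_apply] at h1
  exact mem_nilradical.mp h1

theorem groupLike_eq_of_nil {X : Type u} [CommRing X] [HopfAlgebra R X] (hd : IsDiag R X)
    {x y : X} (hx : IsGroupLikeElem R x) (hy : IsGroupLikeElem R y)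
    (h : x - y ∈ Ideal.map (algebraMap R X) (nilradical R)) : x = y := by
  obtain ⟨M, _, ⟨e⟩⟩ := hd
  apply e.injective
  apply diag_groupLike_eq_of_nil (hx.map e) (hy.map e)
  rw [← map_sub]
  exact algHom_mem_map (e : X →ₐ[R] MonoidAlgebra R M) _ h

end Idem

section Transfer

variable {R : Type u} [CommRing R] {X Y : Type u} [CommRing X] [CommRing Y] [Bialgebra R X]
  [Bialgebra R Y]

lemma span_groupLike_eq_top_of_equiv (e : X ≃ₐc[R] Y)
    (h : Submodule.span R {x : X | IsGroupLikeElem R x} = ⊤) :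
    Submodule.span R {y : Y | IsGroupLikeElem R y} = ⊤ := by
  have key : ∀ x : X, e x ∈ Submodule.span R {y : Y | IsGroupLikeElem R y} := by
    intro x
    have hx : x ∈ Submodule.span R {x : X | IsGroupLikeElem R x} := h ▸ Submodule.mem_top
    refine Submodule.span_induction ?_ ?_ ?_ ?_ hx
    · intro z hz
      exact Submodule.subset_span (hz.map e)
    · rw [map_zero]; exact Submodule.zero_mem _
    · intro z w _ _ hz hw
      rw [map_add]; exact Submodule.add_mem _ hz hw
    · intro c z _ hz
      rw [map_smul]; exact Submodule.smul_mem _ _ hz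
  rw [eq_top_iff]
  intro y _
  rw [← e.apply_symm_apply y]
  exact key _

lemma span_groupLike_monoidAlgebra (M : Type u) [CommGroup M] :
    Submodule.span R {x : MonoidAlgebra R M | IsGroupLikeElem R x} = ⊤ := by
  rw [eq_top_iff]
  intro x hx
  clear hx
  induction x using MonoidAlgebra.induction_linear with
  | zero => exact Submodule.zero_mem _
  | add x y hx hy => exact Submodule.add_mem _ hx hy
  | single m r =>
    have : (MonoidAlgebra.single m r : MonoidAlgebra R M) = r • MonoidAlgebra.single m 1 := by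
      rw [MonoidAlgebra.smul_single, smul_eq_mul, mul_one]
    rw [this]
    exact Submodule.smul_mem _ _ (Submodule.subset_span
      (MonoidAlgebra.isGroupLikeElem_single_one (R := R) (A := R) m))

lemma span_groupLike_eq_top_of_isDiag {X : Type u} [CommRing X] [HopfAlgebra R X]
    (hd : IsDiag R X) : Submodule.span R {x : X | IsGroupLikeElem R x} = ⊤ := by
  obtain ⟨M, _, ⟨e⟩⟩ := hd
  exact span_groupLike_eq_top_of_equiv e.symm (span_groupLike_monoidAlgebra M)

end Transfer

section Insep

variable {k : Type u} [Field k] (A : Type u) [CommRing A] [HopfAlgebra k A]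
variable (E : Type u) [Field E] [Algebra k E]

/-- The two coprojections `E → E ⊗ E`. -/
noncomputable def j₁ : E →ₐ[k] E ⊗[k] E := Algebra.TensorProduct.includeLeft
/-- The two coprojections `E → E ⊗ E`. -/
noncomputable def j₂ : E →ₐ[k] E ⊗[k] E := Algebra.TensorProduct.includeRight

@[simp] lemma j₁_apply (x : E) : j₁ (k := k) E x = x ⊗ₜ[k] (1 : E) := rfl
@[simp] lemma j₂_apply (x : E) : j₂ (k := k) E x = (1 : E) ⊗ₜ[k] x := rfl

lemma isNilpotent_diff [IsPurelyInseparable k E] (x : E) :
    IsNilpotent (x ⊗ₜ[k] (1 : E) - (1 : E) ⊗ₜ[k] x) := by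
  haveI : ExpChar k (ringExpChar k) := ringExpChar.expChar k
  obtain ⟨n, c, hc⟩ := IsPurelyInseparable.pow_mem k (ringExpChar k) x
  haveI : ExpChar (E ⊗[k] E) (ringExpChar k) :=
    expChar_of_injective_algebraMap (algebraMap k (E ⊗[k] E)).injective (ringExpChar k)
  refine ⟨ringExpChar k ^ n, ?_⟩
  rw [sub_pow_expChar_pow, Algebra.TensorProduct.tmul_pow, Algebra.TensorProduct.tmul_pow,
    one_pow, ← hc, Algebra.algebraMap_eq_smul_one, TensorProduct.smul_tmul, sub_self]

lemma push_sub_mem [IsPurelyInseparable k E] (y : E ⊗[k] A) :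
    push A (j₁ (k := k) E) y - push A (j₂ (k := k) E) y ∈
      Ideal.map (algebraMap (E ⊗[k] E) ((E ⊗[k] E) ⊗[k] A)) (nilradical (E ⊗[k] E)) := by
  induction y using TensorProduct.induction_on with
  | zero => simp
  | tmul x a =>
    have e1 : push A (j₁ (k := k) E) (x ⊗ₜ a) - push A (j₂ (k := k) E) (x ⊗ₜ a) =
        algebraMap (E ⊗[k] E) ((E ⊗[k] E) ⊗[k] A) (x ⊗ₜ[k] (1 : E) - (1 : E) ⊗ₜ[k] x) *
          ((1 : E ⊗[k] E) ⊗ₜ[k] a) := by
      rw [push_tmul, push_tmul, j₁_apply, j₂_apply, Algebra.TensorProduct.algebraMap_apply,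
        Algebra.TensorProduct.tmul_mul_tmul, mul_one, one_mul, ← TensorProduct.sub_tmul]
      rfl
    rw [e1]
    exact Ideal.mul_mem_right _ _ (Ideal.mem_map_of_mem _
      (mem_nilradical.mpr (isNilpotent_diff E x)))
  | add y z hy hz =>
    have : push A (j₁ (k := k) E) (y + z) - push A (j₂ (k := k) E) (y + z) =
        (push A (j₁ (k := k) E) y - push A (j₂ (k := k) E) y) +
          (push A (j₁ (k := k) E) z - push A (j₂ (k := k) E) z) := by
      rw [map_add, map_add]; ring
    rw [this]
    exact Ideal.add_mem _ hy hz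

/-- A `k`-linear retraction of `k → E`. -/
lemma exists_retraction : ∃ ρ : E →ₗ[k] k, ρ 1 = 1 := by
  obtain ⟨g, hg⟩ := LinearMap.exists_leftInverse_of_injective (Algebra.linearMap k E)
    (LinearMap.ker_eq_bot.mpr (algebraMap k E).injective)
  refine ⟨g, ?_⟩
  have := congrArg (fun f : k →ₗ[k] k => f 1) hg
  simpa using this

lemma mem_range_of_push_eq (y : E ⊗[k] A)
    (h : push A (j₁ (k := k) E) y = push A (j₂ (k := k) E) y) :
    ∃ a : A, y = (1 : E) ⊗ₜ[k] a := by
  obtain ⟨ρ, hρ⟩ := exists_retraction (k := k) E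
  let P : (E ⊗[k] E) ⊗[k] A →ₗ[k] E ⊗[k] A :=
    LinearMap.rTensor A ((TensorProduct.lid k E).toLinearMap ∘ₗ LinearMap.rTensor E ρ)
  let Q : E ⊗[k] A →ₗ[k] A := (TensorProduct.lid k A).toLinearMap ∘ₗ LinearMap.rTensor A ρ
  have h2 : ∀ z : E ⊗[k] A, P (push A (j₂ (k := k) E) z) = z := by
    intro z
    induction z using TensorProduct.induction_on with
    | zero => simp
    | tmul x a => simp [P, hρ]
    | add z w hz hw => rw [map_add, map_add, hz, hw]
  have h1 : ∀ z : E ⊗[k] A, P (push A (j₁ (k := k) E) z) = (1 : E) ⊗ₜ[k] Q z := by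
    intro z
    induction z using TensorProduct.induction_on with
    | zero => simp
    | tmul x a =>
      simp only [P, Q, push_tmul, j₁_apply, LinearMap.rTensor_tmul, LinearMap.coe_comp,
        LinearEquiv.coe_coe, Function.comp_apply, TensorProduct.lid_tmul]
      rw [TensorProduct.smul_tmul]
    | add z w hz hw => rw [map_add, map_add, hz, hw, map_add, TensorProduct.tmul_add]
  refine ⟨Q y, ?_⟩
  rw [← h1, h, h2]

/-- Over a purely inseparable extension, group-like elements descend. -/
theorem groupLike_descends [IsPurelyInseparable k E] (hE : Sp k A E = ⊤)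
    {g : E ⊗[k] A} (hg : IsGroupLikeElem E g) :
    ∃ a : A, IsGroupLikeElem k a ∧ g = (1 : E) ⊗ₜ[k] a := by
  have hd : IsDiag E (E ⊗[k] A) := isDiag_of_span_groupLike hE
  have hdR : IsDiag (E ⊗[k] E) ((E ⊗[k] E) ⊗[k] A) :=
    IsDiag.of_tower E (E ⊗[k] E) (IsDiag.baseChange hd (E ⊗[k] E))
  have h1 := groupLike_eq_of_nil hdR (push_groupLike A (j₁ (k := k) E) hg)
    (push_groupLike A (j₂ (k := k) E) hg) (push_sub_mem A E g)
  obtain ⟨a, rfl⟩ := mem_range_of_push_eq A E g h1
  exact ⟨a, isGroupLikeElem_of_one_tmul E (algebraMap k E).injective hg, rfl⟩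

/-- Over a purely inseparable extension, being spanned by group-like elements descends. -/
theorem span_groupLike_eq_top_of_insep [IsPurelyInseparable k E] (hE : Sp k A E = ⊤) :
    Submodule.span k {a : A | IsGroupLikeElem k a} = ⊤ := by
  obtain ⟨ρ, hρ⟩ := exists_retraction (k := k) E
  let Q : E ⊗[k] A →ₗ[k] A := (TensorProduct.lid k A).toLinearMap ∘ₗ LinearMap.rTensor A ρ
  set W := Submodule.span k {a : A | IsGroupLikeElem k a} with hW
  have key : ∀ z ∈ Sp k A E, ∀ c : E, Q (c • z) ∈ W := by
    intro z hz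
    refine Submodule.span_induction ?_ ?_ ?_ ?_ hz
    · intro g hg c
      obtain ⟨a, ha, rfl⟩ := groupLike_descends A E hE hg
      have : Q (c • ((1 : E) ⊗ₜ[k] a)) = ρ c • a := by
        simp [Q, TensorProduct.smul_tmul']
      rw [this]
      exact Submodule.smul_mem _ _ (Submodule.subset_span ha)
    · intro c
      rw [smul_zero, map_zero]; exact Submodule.zero_mem _
    · intro z w _ _ hz hw c
      rw [smul_add, map_add]; exact Submodule.add_mem _ (hz c) (hw c)
    · intro c' z _ hz c
      rw [smul_smul]; exact hz _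
  rw [eq_top_iff]
  intro a _
  have h1 := key ((1 : E) ⊗ₜ[k] a) (hE ▸ Submodule.mem_top) 1
  have h2 : Q ((1 : E) • ((1 : E) ⊗ₜ[k] a)) = a := by
    simp [Q, hρ]
  rwa [h2] at h1

end Insep

end Groth.Agent.Lib.Helper6.Isotriv
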