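import Mathlib
import Groth.Prelude.Def_SGA3b
import Groth.Agent.Lib.Helper6.Isotriv.Insep

/-!
# Groups of multiplicative type of finite type over a field are isotrivial (helper6)
-/

set_option autoImplicit false
set_option linter.unusedSectionVars false
set_option linter.unusedVariables false
set_option linter.unusedSimpArgs false
set_option linter.style.haveILetI false
set_option maxHeartbeats 400000
universe u
open TensorProduct SGA3b Coalgebra
open Groth.Agent.Lib.Helper6.MultType

namespace Groth.Agent.Lib.Helper6.Isotriv

/-- Over a field, a Hopf algebra of finite type spanned by its group-like elements is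
diagonalisable of finite type. -/
theorem isDiagFT_of_span_groupLike {K : Type u} [Field K] {B : Type u} [CommRing B]
    [HopfAlgebra K B] (hft : Algebra.FiniteType K B)
    (hspan : Submodule.span K {a : B | IsGroupLikeElem K a} = ⊤) : IsDiagFT K B := by
  obtain ⟨M, _, ⟨e⟩⟩ := isDiag_of_span_groupLike hspan
  refine ⟨M, inferInstance, ?_, ⟨e⟩⟩
  have h1 : Algebra.FiniteType K (MonoidAlgebra K M) := hft.equiv (e : B ≃ₐ[K] MonoidAlgebra K M)
  exact MonoidAlgebra.finiteType_iff_group_fg.mp h1

theorem isotrivial_of_field (k : Type u) [Field k] (A : Type u) [CommRing A] [HopfAlgebra k A]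
    (hft : Algebra.FiniteType k A) (h : IsMultType k A) :
    ∃ (k' : Type u) (_ : Field k') (_ : Algebra k k'), Module.Finite k k' ∧
      Algebra.IsSeparable k k' ∧ IsDiagFT k' (k' ⊗[k] A) := by
  obtain ⟨K, _, _, hdK⟩ := IsMultType.exists_field_chart h
  have hK : Sp k A K = ⊤ := span_groupLike_eq_top_of_isDiag hdK
  obtain ⟨K₀, _, _, hfin, hK₀⟩ := exists_finite_Sp_eq_top A K hft hK
  let k' : IntermediateField k K₀ := separableClosure k K₀
  refine ⟨k', inferInstance, inferInstance, inferInstance, inferInstance, ?_⟩
  haveI : IsPurelyInseparable k' K₀ := separableClosure.isPurelyInseparable k K₀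
  apply isDiagFT_of_span_groupLike
  · infer_instance
  · apply span_groupLike_eq_top_of_insep (k' ⊗[k] A) K₀
    exact span_groupLike_eq_top_of_equiv (cancelBaseChangeBialgEquiv k k' A K₀).symm hK₀

end Groth.Agent.Lib.Helper6.Isotriv
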