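import Mathlib
import Groth.Prelude.Def_SGA3b
import Groth.Agent.Lib.Helper6.Isotriv.Insep

/-!
# Coefficients of group-like elements of a group algebra over an arbitrary ring (helper6)

The coefficients of a group-like element of `R[M]` are a complete family of orthogonal
idempotents; the annihilator of the difference of two group-like elements is generated by an
idempotent.
-/

set_option autoImplicit false
set_option linter.unusedSectionVars false
set_option linter.unusedVariables false
set_option linter.unusedSimpArgs false
set_option linter.style.haveILetI false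
set_option maxHeartbeats 400000
universe u
open TensorProduct SGA3b Coalgebra
open Groth.Agent.Lib.Helper6.MultType

namespace Groth.Agent.Lib.Helper6.Isotriv

section Families

variable {R : Type u} [CommRing R] {M : Type u} [DecidableEq M]

/-- A finitely supported complete family of orthogonal idempotents. -/
structure COI (S : Finset M) (a : M → R) : Prop where
  idem : ∀ m, a m * a m = a m
  orth : ∀ m n, m ≠ n → a m * a n = 0
  sum_one : ∑ m ∈ S, a m = 1
  supp : ∀ m, m ∉ S → a m = 0

variable {S : Finset M} {a b : M → R}

/-- The coincidence idempotent of two families. -/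
def coinc (S : Finset M) (a b : M → R) : R := ∑ m ∈ S, a m * b m

lemma coinc_mul_left (ha : COI S a) (m : M) : coinc S a b * a m = a m * b m := by
  by_cases hm : m ∈ S
  · rw [coinc, Finset.sum_mul, Finset.sum_eq_single m]
    · rw [mul_right_comm, ha.idem]
    · intro n _ hnm
      rw [mul_right_comm, ha.orth n m hnm, zero_mul]
    · intro h; exact absurd hm h
  · rw [ha.supp m hm, mul_zero, zero_mul]

lemma coinc_mul_right (hb : COI S b) (m : M) : coinc S a b * b m = a m * b m := by
  by_cases hm : m ∈ S
  · rw [coinc, Finset.sum_mul, Finset.sum_eq_single m]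
    · rw [mul_assoc, hb.idem]
    · intro n _ hnm
      rw [mul_assoc, hb.orth n m hnm, mul_zero]
    · intro h; exact absurd hm h
  · rw [hb.supp m hm, mul_zero, mul_zero]

lemma coinc_idem (ha : COI S a) (hb : COI S b) : coinc S a b * coinc S a b = coinc S a b := by
  calc coinc S a b * coinc S a b = coinc S a b * ∑ m ∈ S, a m * b m := rfl
    _ = ∑ m ∈ S, coinc S a b * (a m * b m) := Finset.mul_sum _ _ _
    _ = ∑ m ∈ S, a m * b m := Finset.sum_congr rfl fun m _ => by
        rw [← mul_assoc, coinc_mul_left ha, mul_assoc, hb.idem]
    _ = coinc S a b := rfl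

lemma eq_mul_coinc (ha : COI S a) (hb : COI S b) {r : R} (h : ∀ m, r * a m = r * b m) :
    r = r * coinc S a b := by
  calc r = r * ∑ m ∈ S, a m := by rw [ha.sum_one, mul_one]
    _ = ∑ m ∈ S, r * a m * a m := by
        rw [Finset.mul_sum]
        exact Finset.sum_congr rfl fun m _ => by rw [mul_assoc, ha.idem]
    _ = ∑ m ∈ S, r * (a m * b m) := by
        refine Finset.sum_congr rfl fun m _ => ?_
        rw [h m]; ring
    _ = r * coinc S a b := by rw [coinc, Finset.mul_sum]

lemma mul_eq_zero_of_coinc (ha : COI S a) (hb : COI S b) (h : coinc S a b = 0) (m : M) :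
    a m * b m = 0 := by
  rw [← coinc_mul_left ha, h, zero_mul]

end Families

section DiagCoeff

variable {R : Type u} [CommRing R] {M : Type u} [CommGroup M]

/-- `x ⊗ y ↦ x_m y_n`. -/
noncomputable def coeffL₂' (m n : M) : MonoidAlgebra R M ⊗[R] MonoidAlgebra R M →ₗ[R] R :=
  LinearMap.mul' R R ∘ₗ TensorProduct.map (coeffL R M m) (coeffL R M n)

@[simp] lemma coeffL₂'_tmul (m n : M) (x y : MonoidAlgebra R M) :
    coeffL₂' m n (x ⊗ₜ[R] y) = x.coeff m * y.coeff n := by
  simp [coeffL₂']

lemma coeffL₂'_comul_of_ne {m n : M} (hmn : m ≠ n) (x : MonoidAlgebra R M) :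
    coeffL₂' m n (comul (R := R) x) = 0 := by
  classical
  induction x using MonoidAlgebra.induction_linear with
  | zero => simp
  | add x y hx hy => rw [map_add, map_add, hx, hy, add_zero]
  | single p r =>
    rw [MonoidAlgebra.comul_single, CommSemiring.comul_apply, TensorProduct.map_tmul]
    simp only [MonoidAlgebra.lsingle_apply, coeffL₂'_tmul, MonoidAlgebra.coeff_single,
      Finsupp.single_apply]
    by_cases h1 : p = m
    · have h2 : p ≠ n := fun h => hmn (h1.symm.trans h)
      rw [if_neg h2, mul_zero]
    · rw [if_neg h1, zero_mul]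

lemma coeff_orth {x : MonoidAlgebra R M} (hx : IsGroupLikeElem R x) {m n : M} (hmn : m ≠ n) :
    x.coeff m * x.coeff n = 0 := by
  have h1 := coeffL₂'_comul_of_ne hmn x
  rw [hx.comul_eq_tmul_self, coeffL₂'_tmul] at h1
  exact h1

lemma counit_eq_sum (x : MonoidAlgebra R M) :
    counit (R := R) x = x.coeff.sum fun _ r => r := by
  classical
  induction x using MonoidAlgebra.induction_linear with
  | zero => simp
  | add x y hx hy =>
    rw [map_add, hx, hy, MonoidAlgebra.coeff_add, Finsupp.sum_add_index'] <;> simp
  | single p r => simp [MonoidAlgebra.coeff_single]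

lemma groupLike_COI [DecidableEq M] {x : MonoidAlgebra R M} (hx : IsGroupLikeElem R x)
    (S : Finset M) (hS : x.coeff.support ⊆ S) : COI S (fun m => x.coeff m) where
  idem := coeff_idem hx
  orth := fun m n hmn => coeff_orth hx hmn
  sum_one := by
    have h1 := hx.counit_eq_one
    rw [counit_eq_sum, Finsupp.sum] at h1
    rw [← h1]
    symm
    apply Finset.sum_subset hS
    intro m _ hm
    exact Finsupp.notMem_support_iff.mp hm
  supp := fun m hm => Finsupp.notMem_support_iff.mp fun h => hm (hS h)

end DiagCoeff

end Groth.Agent.Lib.Helper6.Isotriv
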