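import Mathlib
import Groth.Prelude.Def_SGA3b
import Groth.Agent.Lib.Helper6.Isotriv.Orth
import Groth.Agent.Lib.Helper6.MultType.Finite
import Groth.Agent.Lib.Helper6.MultType.Mono

/-!
# Linear independence of group-like elements over a connected base (helper6)

For a group of multiplicative type over a ring without nontrivial idempotents, distinct
group-like elements are linearly independent.
-/

set_option autoImplicit false
set_option linter.unusedSectionVars false
set_option linter.unusedVariables false
set_option linter.unusedSimpArgs false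
set_option linter.style.haveILetI false
set_option maxHeartbeats 400000
universe u
open TensorProduct SGA3b Coalgebra
open Groth.Agent.Lib.Helper6.MultType

namespace Groth.Agent.Lib.Helper6.Isotriv

section Ann

variable {R : Type u} [CommRing R] {B : Type u} [AddCommGroup B] [Module R B]

/-- The annihilator of an element. -/
def annElt (b : B) : Ideal R := LinearMap.ker (LinearMap.toSpanSingleton R B b)

lemma mem_annElt {b : B} {r : R} : r ∈ annElt b ↔ r • b = 0 := by
  simp [annElt]

/-- The multiplication map `R' ⊗ I → R'`. -/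
noncomputable def idealMul (R' : Type u) [CommRing R'] [Algebra R R'] (I : Ideal R) :
    R' ⊗[R] I →ₗ[R'] R' :=
  (AlgebraTensorModule.rid R R' R').toLinearMap ∘ₗ AlgebraTensorModule.lTensor R' R' I.subtype

@[simp] lemma idealMul_tmul (R' : Type u) [CommRing R'] [Algebra R R'] (I : Ideal R) (s : R')
    (a : I) : idealMul R' I (s ⊗ₜ[R] a) = algebraMap R R' a.1 * s := by
  simp [idealMul, Algebra.smul_def]

lemma idealMul_mem (R' : Type u) [CommRing R'] [Algebra R R'] (I : Ideal R) (z : R' ⊗[R] I) :
    idealMul R' I z ∈ Ideal.map (algebraMap R R') I := by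
  induction z using TensorProduct.induction_on with
  | zero => simp
  | tmul s a =>
    rw [idealMul_tmul]
    exact Ideal.mul_mem_right _ _ (Ideal.mem_map_of_mem _ a.2)
  | add y z hy hz => rw [map_add]; exact Ideal.add_mem _ hy hz

lemma idealMul_surj (R' : Type u) [CommRing R'] [Algebra R R'] (I : Ideal R) {y : R'}
    (hy : y ∈ Ideal.map (algebraMap R R') I) : ∃ z, idealMul R' I z = y := by
  refine Submodule.span_induction ?_ ?_ ?_ ?_ hy
  · rintro _ ⟨a, ha, rfl⟩
    exact ⟨(1 : R') ⊗ₜ[R] ⟨a, ha⟩, by simp⟩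
  · exact ⟨0, map_zero _⟩
  · rintro _ _ _ _ ⟨z, rfl⟩ ⟨w, rfl⟩
    exact ⟨z + w, map_add _ _ _⟩
  · rintro r _ _ ⟨z, rfl⟩
    exact ⟨r • z, map_smul _ _ _⟩

lemma idealMul_injective (R' : Type u) [CommRing R'] [Algebra R R'] [Module.Flat R R']
    (I : Ideal R) : Function.Injective (idealMul R' I) := by
  have h1 : Function.Injective (LinearMap.lTensor R' (Submodule.subtype I)) :=
    Module.Flat.lTensor_preserves_injective_linearMap _ Subtype.val_injective
  intro z w hzw
  apply h1
  have h2 := (AlgebraTensorModule.rid R R' R').injective hzw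
  exact h2

lemma mem_map_annElt_of_flat (R' : Type u) [CommRing R'] [Algebra R R'] [Module.Flat R R'] (b : B)
    (r' : R') (h : r' • ((1 : R') ⊗ₜ[R] b) = 0) :
    r' ∈ Ideal.map (algebraMap R R') (annElt b) := by
  have hex := Module.Flat.lTensor_exact R'
    (LinearMap.exact_subtype_ker_map (LinearMap.toSpanSingleton R B b))
  have h1 : (LinearMap.toSpanSingleton R B b).lTensor R' (r' ⊗ₜ[R] (1 : R)) = 0 := by
    rw [LinearMap.lTensor_tmul, LinearMap.toSpanSingleton_apply, one_smul]
    rw [TensorProduct.smul_tmul', smul_eq_mul, mul_one] at h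
    exact h
  obtain ⟨z, hz⟩ := (hex _).mp h1
  have h2 : idealMul R' (annElt b) z = r' := by
    have : idealMul R' (annElt b) z =
        AlgebraTensorModule.rid R R' R' ((LinearMap.lTensor R' (Submodule.subtype (annElt b))) z) :=
      rfl
    rw [this]
    have hz' : (LinearMap.lTensor R' (Submodule.subtype (annElt b))) z = r' ⊗ₜ[R] (1 : R) := hz
    rw [hz']
    simp
  rw [← h2]
  exact idealMul_mem R' _ z

end Ann

section Chart

variable {R : Type u} [CommRing R] {B : Type u} [CommRing B] [HopfAlgebra R B]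
variable (R' : Type u) [CommRing R'] [Algebra R R'] {M' : Type u} [CommGroup M']
  (e : R' ⊗[R] B ≃ₐc[R'] MonoidAlgebra R' M')

/-- The chart image of an element. -/
noncomputable def ch (b : B) : MonoidAlgebra R' M' := e ((1 : R') ⊗ₜ[R] b)

lemma ch_groupLike {b : B} (hb : IsGroupLikeElem R b) : IsGroupLikeElem R' (ch R' e b) :=
  (isGroupLikeElem_one_tmul R' hb).map e

lemma ch_sub (b₁ b₂ : B) : ch R' e (b₁ - b₂) = ch R' e b₁ - ch R' e b₂ := by
  simp [ch, TensorProduct.tmul_sub]

lemma ch_smul (r : R) (b : B) : ch R' e (r • b) = algebraMap R R' r • ch R' e b := by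
  have h1 : (1 : R') ⊗ₜ[R] (r • b) = algebraMap R R' r • ((1 : R') ⊗ₜ[R] b) := by
    rw [← TensorProduct.smul_tmul, TensorProduct.smul_tmul', smul_eq_mul, Algebra.smul_def]
  rw [ch, ch, h1, map_smul]

lemma ch_eq_zero_iff (r' : R') (b : B) :
    r' • ch R' e b = 0 ↔ r' • ((1 : R') ⊗ₜ[R] b) = 0 := by
  rw [ch, ← map_smul]
  exact map_eq_zero_iff e e.injective

/-- In a chart, the extension of the annihilator of the difference of two group-like elements
is generated by an idempotent, the vanishing of which makes their coefficients orthogonal. -/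
lemma chart_ann [Module.Flat R R'] {b₁ b₂ : B} (h₁ : IsGroupLikeElem R b₁)
    (h₂ : IsGroupLikeElem R b₂) :
    ∃ c : R', c * c = c ∧ Ideal.map (algebraMap R R') (annElt (b₁ - b₂)) = Ideal.span {c} ∧
      (c = 0 → ∀ m, (ch R' e b₁).coeff m * (ch R' e b₂).coeff m = 0) := by
  classical
  set X₁ := ch R' e b₁ with hX₁
  set X₂ := ch R' e b₂ with hX₂
  set S := X₁.coeff.support ∪ X₂.coeff.support with hS
  have c1 := groupLike_COI (ch_groupLike R' e h₁) S Finset.subset_union_left
  have c2 := groupLike_COI (ch_groupLike R' e h₂) S Finset.subset_union_right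
  set c := coinc S (fun m => X₁.coeff m) (fun m => X₂.coeff m) with hc
  have hcX : c • (X₁ - X₂) = 0 := by
    apply MonoidAlgebra.coeff_injective
    ext m
    have e1 := coinc_mul_left (b := fun m => X₂.coeff m) c1 m
    have e2 := coinc_mul_right (a := fun m => X₁.coeff m) c2 m
    simp only [MonoidAlgebra.coeff_smul, MonoidAlgebra.coeff_sub, Finsupp.smul_apply,
      Finsupp.sub_apply, smul_eq_mul, MonoidAlgebra.coeff_zero, Finsupp.zero_apply, mul_sub]
    rw [← hc] at e1 e2
    rw [e1, e2, sub_self]
  refine ⟨c, coinc_idem c1 c2, ?_, fun h0 m => mul_eq_zero_of_coinc c1 c2 h0 m⟩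
  apply le_antisymm
  · rw [Ideal.map_le_iff_le_comap]
    intro r hr
    rw [Ideal.mem_comap, Ideal.mem_span_singleton']
    rw [mem_annElt] at hr
    have h3 : algebraMap R R' r • (X₁ - X₂) = 0 := by
      rw [hX₁, hX₂, ← ch_sub, ← ch_smul, hr]
      simp [ch]
    have h4 : ∀ m, algebraMap R R' r * X₁.coeff m = algebraMap R R' r * X₂.coeff m := by
      intro m
      have := congrArg (fun x : MonoidAlgebra R' M' => x.coeff m) h3
      simp only [MonoidAlgebra.coeff_smul, MonoidAlgebra.coeff_sub, Finsupp.smul_apply,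
        Finsupp.sub_apply, smul_eq_mul, MonoidAlgebra.coeff_zero, Finsupp.zero_apply,
        mul_sub] at this
      exact sub_eq_zero.mp this
    exact ⟨algebraMap R R' r, (eq_mul_coinc c1 c2 h4).symm⟩
  · rw [Ideal.span_le, Set.singleton_subset_iff]
    apply mem_map_annElt_of_flat
    rw [← ch_eq_zero_iff R' e, ch_sub]
    exact hcX

end Chart

section Connected

variable {R : Type u} [CommRing R] {B : Type u} [CommRing B] [HopfAlgebra R B]

lemma annElt_fg (h : IsMultType R B) {b₁ b₂ : B} (h₁ : IsGroupLikeElem R b₁)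
    (h₂ : IsGroupLikeElem R b₂) : (annElt (b₁ - b₂) : Ideal R).FG := by
  apply Module.Finite.iff_fg.mp
  apply IsMultType.finite_of_forall_chart h
  intro R' _ _ hflat hd
  obtain ⟨M', _, ⟨e⟩⟩ := hd
  obtain ⟨c, hc, hmap, _⟩ := chart_ann R' e h₁ h₂
  obtain ⟨z₀, hz₀⟩ := idealMul_surj R' (annElt (b₁ - b₂))
    (show c ∈ Ideal.map (algebraMap R R') (annElt (b₁ - b₂)) from
      hmap ▸ Ideal.mem_span_singleton_self c)
  refine Module.Finite.of_surjective (LinearMap.toSpanSingleton R' _ z₀) ?_
  intro z
  have h3 := idealMul_mem R' (annElt (b₁ - b₂)) z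
  rw [hmap, Ideal.mem_span_singleton'] at h3
  obtain ⟨r', hr'⟩ := h3
  refine ⟨r', ?_⟩
  apply idealMul_injective R' (annElt (b₁ - b₂))
  rw [LinearMap.toSpanSingleton_apply, map_smul, hz₀, smul_eq_mul, hr']

lemma annElt_idem (h : IsMultType R B) {b₁ b₂ : B} (h₁ : IsGroupLikeElem R b₁)
    (h₂ : IsGroupLikeElem R b₂) : IsIdempotentElem (annElt (b₁ - b₂) : Ideal R) := by
  set I := (annElt (b₁ - b₂) : Ideal R) with hI
  apply le_antisymm Ideal.mul_le_right
  intro x hx
  have key := IsMultType.mem_map_of_forall_chart h (I * I) (B := R) x ?_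
  · simpa using key
  intro R' _ _ hflat hd
  obtain ⟨M', _, ⟨e⟩⟩ := hd
  obtain ⟨c, hc, hmap, _⟩ := chart_ann R' e h₁ h₂
  have h3 : algebraMap R R' x ∈ Ideal.map (algebraMap R R') (I * I) := by
    rw [Ideal.map_mul, hmap, Ideal.span_singleton_mul_span_singleton, hc, ← hmap]
    exact Ideal.mem_map_of_mem _ hx
  have h4 := algHom_mem_map
    (Algebra.TensorProduct.includeLeft : R' →ₐ[R] R' ⊗[R] R) (I * I) h3
  have h5 : (Algebra.TensorProduct.includeLeft : R' →ₐ[R] R' ⊗[R] R) (algebraMap R R' x) =
      (1 : R') ⊗ₜ[R] x := by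
    rw [Algebra.TensorProduct.includeLeft_apply, Algebra.algebraMap_eq_smul_one,
      TensorProduct.smul_tmul, smul_eq_mul, mul_one]
  rwa [h5] at h4

lemma annElt_eq_bot (hconn : ∀ e : R, IsIdempotentElem e → e = 0 ∨ e = 1) (h : IsMultType R B)
    {b₁ b₂ : B} (h₁ : IsGroupLikeElem R b₁) (h₂ : IsGroupLikeElem R b₂) (hne : b₁ ≠ b₂) :
    (annElt (b₁ - b₂) : Ideal R) = ⊥ := by
  obtain ⟨e, he, hI⟩ := (Ideal.isIdempotentElem_iff_of_fg _ (annElt_fg h h₁ h₂)).mp
    (annElt_idem h h₁ h₂)
  rcases hconn e he with rfl | rfl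
  · rw [hI]; simp
  · exfalso
    apply hne
    have h1 : (1 : R) ∈ (annElt (b₁ - b₂) : Ideal R) := by
      rw [hI]; exact Ideal.mem_span_singleton_self 1
    rw [mem_annElt, one_smul] at h1
    exact sub_eq_zero.mp h1

/-- Over a ring without nontrivial idempotents, the group-like elements of a group of
multiplicative type are linearly independent. -/
theorem linearIndependent_groupLike (hconn : ∀ e : R, IsIdempotentElem e → e = 0 ∨ e = 1)
    (h : IsMultType R B) : LinearIndependent R (GroupLike.val : GroupLike R B → B) := by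
  classical
  rw [linearIndependent_iff']
  intro s r hsum j hj
  apply IsMultType.eq_zero_of_forall_chart h (N := R) (r j)
  intro R' _ _ hflat hd
  obtain ⟨M', _, ⟨e⟩⟩ := hd
  haveI := hflat
  -- orthogonality of distinct group-likes in the chart
  have horth : ∀ i ∈ s, i ≠ j → ∀ m, (ch R' e i.val).coeff m * (ch R' e j.val).coeff m = 0 := by
    intro i _ hij m
    obtain ⟨c, hc, hmap, h0⟩ := chart_ann R' e i.2 j.2
    have hbot := annElt_eq_bot hconn h i.2 j.2 (fun hv => hij (GroupLike.val_injective hv))
    rw [hbot, Ideal.map_bot] at hmap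
    have : c = 0 := by
      have : c ∈ (⊥ : Ideal R') := hmap ▸ Ideal.mem_span_singleton_self c
      simpa using this
    exact h0 this m
  have hsum' : ∑ i ∈ s, algebraMap R R' (r i) • ch R' e i.val = 0 := by
    have h0 : ch R' e (∑ i ∈ s, r i • i.val) = 0 := by rw [hsum]; simp [ch]
    rw [← h0]
    simp only [ch, TensorProduct.tmul_sum, map_sum]
    refine Finset.sum_congr rfl fun i _ => ?_
    exact (ch_smul R' e (r i) i.val).symm
  have hj1 : ∀ m, algebraMap R R' (r j) * (ch R' e j.val).coeff m = 0 := by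
    intro m
    have h1 := congrArg (fun x : MonoidAlgebra R' M' => x.coeff m * (ch R' e j.val).coeff m) hsum'
    simp only [MonoidAlgebra.coeff_sum, MonoidAlgebra.coeff_smul, Finsupp.coe_finsetSum,
      Finsupp.smul_apply, Finset.sum_apply, smul_eq_mul, MonoidAlgebra.coeff_zero,
      Finsupp.zero_apply, zero_mul, Finset.sum_mul] at h1
    rw [Finset.sum_eq_single j] at h1
    · rw [mul_assoc, coeff_idem (ch_groupLike R' e j.2)] at h1
      exact h1
    · intro i hi hij
      rw [mul_assoc, horth i hi hij m, mul_zero]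
    · intro hj'; exact absurd hj hj'
  have hone := (groupLike_COI (ch_groupLike R' e j.2) _ (Finset.Subset.refl _)).sum_one
  have : algebraMap R R' (r j) = 0 := by
    calc algebraMap R R' (r j) = algebraMap R R' (r j) *
          ∑ m ∈ (ch R' e j.val).coeff.support, (ch R' e j.val).coeff m := by rw [hone, mul_one]
      _ = 0 := by
          rw [Finset.mul_sum]
          exact Finset.sum_eq_zero fun m _ => hj1 m
  rw [← mul_one (r j), ← smul_eq_mul, ← TensorProduct.smul_tmul, Algebra.smul_def, mul_one, this,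
    TensorProduct.zero_tmul]

/-- Over a ring without nontrivial idempotents, a group of multiplicative type spanned by its
group-like elements is diagonalisable. -/
theorem isDiag_of_span_groupLike_of_connected
    (hconn : ∀ e : R, IsIdempotentElem e → e = 0 ∨ e = 1) (h : IsMultType R B)
    (hspan : Submodule.span R {a : B | IsGroupLikeElem R a} = ⊤) : IsDiag R B := by
  refine ⟨GroupLike R B, inferInstance, ⟨(BialgEquiv.ofBijective
    (MonoidAlgebra.liftGroupLikeBialgHom (R := R) (A := B)) ⟨?_, ?_⟩).symm⟩⟩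
  · have hli := linearIndependent_groupLike hconn h
    rw [LinearIndependent] at hli
    have e : ∀ x : MonoidAlgebra R (GroupLike R B),
        MonoidAlgebra.liftGroupLikeBialgHom (R := R) (A := B) x =
          Finsupp.linearCombination R (GroupLike.val (R := R) (A := B)) x.coeff := by
      intro x
      induction x using MonoidAlgebra.induction_linear with
      | zero => simp
      | add x y hx hy => rw [map_add, hx, hy, MonoidAlgebra.coeff_add, map_add]
      | single g r =>
        simp [MonoidAlgebra.liftGroupLikeBialgHom, Algebra.smul_def]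
    intro x y hxy
    rw [e, e] at hxy
    exact MonoidAlgebra.coeff_injective (hli hxy)
  · intro b
    have hb : b ∈ Submodule.span R {a : B | IsGroupLikeElem R a} := hspan ▸ Submodule.mem_top
    refine Submodule.span_induction ?_ ?_ ?_ ?_ hb
    · intro a ha
      exact ⟨MonoidAlgebra.single ⟨a, ha⟩ 1, by simp [MonoidAlgebra.liftGroupLikeBialgHom]⟩
    · exact ⟨0, map_zero _⟩
    · rintro x y _ _ ⟨x', rfl⟩ ⟨y', rfl⟩
      exact ⟨x' + y', map_add _ _ _⟩
    · rintro r x _ ⟨x', rfl⟩
      exact ⟨r • x', map_smul _ _ _⟩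

end Connected

end Groth.Agent.Lib.Helper6.Isotriv
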