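import Mathlib
import Groth.Prelude.Def_SGA3b
import Groth.Agent.Lib.Helper6.Isotriv.LinIndep

/-!
# Subgroups of multiplicative type of a diagonalisable group over a connected base (helper6)
-/

set_option autoImplicit false
set_option linter.unusedSectionVars false
set_option linter.unusedVariables false
set_option linter.unusedSimpArgs false
set_option linter.style.haveILetI false
set_option maxHeartbeats 400000
universe u
open TensorProduct SGA3b Coalgebra
open Groth.Agent.Lib.Helper6.MultType

namespace Groth.Agent.Lib.Helper6.Isotriv

variable {R : Type u} [CommRing R]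

lemma span_groupLike_eq_top_of_surjective {X Y : Type u} [CommRing X] [CommRing Y]
    [Bialgebra R X] [Bialgebra R Y] (q : X →ₐc[R] Y) (hq : Function.Surjective q)
    (h : Submodule.span R {x : X | IsGroupLikeElem R x} = ⊤) :
    Submodule.span R {y : Y | IsGroupLikeElem R y} = ⊤ := by
  have key : ∀ x : X, q x ∈ Submodule.span R {y : Y | IsGroupLikeElem R y} := by
    intro x
    have hx : x ∈ Submodule.span R {x : X | IsGroupLikeElem R x} := h ▸ Submodule.mem_top
    refine Submodule.span_induction ?_ ?_ ?_ ?_ hx
    · intro z hz
      exact Submodule.subset_span (hz.map q)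
    · rw [map_zero]; exact Submodule.zero_mem _
    · intro z w _ _ hz hw
      rw [map_add]; exact Submodule.add_mem _ hz hw
    · intro c z _ hz
      rw [map_smul]; exact Submodule.smul_mem _ _ hz
  rw [eq_top_iff]
  intro y _
  obtain ⟨x, rfl⟩ := hq y
  exact key x

/-- Over a ring without nontrivial idempotents, a closed subgroup of multiplicative type of a
diagonalisable group is diagonalisable. -/
theorem subgroup_of_diag_isDiag_of_connected
    (A : Type u) [CommRing A] [HopfAlgebra R A]
    (hconn : ∀ e : R, IsIdempotentElem e → e = 0 ∨ e = 1)
    (hG : IsDiag R A) (J : Ideal A) [J.IsHopfIdeal R] (hH : IsMultType R (A ⧸ J)) :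
    IsDiag R (A ⧸ J) := by
  apply isDiag_of_span_groupLike_of_connected hconn hH
  exact span_groupLike_eq_top_of_surjective (Bialgebra.Quotient.mkBialgHom (R := R) J)
    Ideal.Quotient.mk_surjective (span_groupLike_eq_top_of_isDiag hG)

end Groth.Agent.Lib.Helper6.Isotriv
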