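import Mathlib
import Groth.Prelude.Def_SGA3b
import Groth.Agent.Lib.Helper6.Isotriv.SubDiag
import Groth.Agent.Lib.Helper6.MultType.Finite
import Groth.Agent.Lib.Helper6.MultType.PowConv

/-!
# The torsion subgroups of a group of multiplicative type (helper6)
-/

set_option autoImplicit false
set_option linter.unusedSectionVars false
set_option linter.unusedVariables false
set_option linter.unusedSimpArgs false
set_option linter.style.haveILetI false
set_option maxHeartbeats 400000
universe u
open TensorProduct SGA3b Coalgebra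
open Groth.Agent.Lib.Helper6.MultType

namespace Groth.Agent.Lib.Helper6.Isotriv

section QuotDiag

variable {R : Type u} [CommRing R] {M : Type u} [CommGroup M]
variable {Y : Type u} [CommRing Y] [HopfAlgebra R Y]

/-- The monoid hom `M → GroupLike Y` of a bialgebra map `R[M] → Y`. -/
noncomputable def glHom (q : MonoidAlgebra R M →ₐc[R] Y) : M →* GroupLike R Y where
  toFun m := ⟨q (MonoidAlgebra.single m 1),
    (MonoidAlgebra.isGroupLikeElem_single_one (R := R) (A := R) m).map q⟩
  map_one' := by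
    apply GroupLike.val_injective
    show q (MonoidAlgebra.single 1 1) = 1
    rw [← MonoidAlgebra.one_def, map_one]
  map_mul' m n := by
    apply GroupLike.val_injective
    show q (MonoidAlgebra.single (m * n) 1) = q (MonoidAlgebra.single m 1) *
      q (MonoidAlgebra.single n 1)
    rw [← map_mul, MonoidAlgebra.single_mul_single, mul_one]

lemma glHom_val (q : MonoidAlgebra R M →ₐc[R] Y) (m : M) :
    (glHom q m).val = q (MonoidAlgebra.single m 1) := rfl

lemma mem_ker_glHom (q : MonoidAlgebra R M →ₐc[R] Y) (m : M) :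
    m ∈ (glHom q).ker ↔ q (MonoidAlgebra.single m 1) = 1 := by
  rw [MonoidHom.mem_ker]
  constructor
  · intro h
    have := congrArg GroupLike.val h
    exact this
  · intro h
    apply GroupLike.val_injective
    exact h

/-- The induced bialgebra map `R[M ⧸ N] → Y`. -/
noncomputable def quotLift (q : MonoidAlgebra R M →ₐc[R] Y) :
    MonoidAlgebra R (M ⧸ (glHom q).ker) →ₐc[R] Y :=
  (MonoidAlgebra.liftGroupLikeBialgHom (R := R) (A := Y)).comp
    (MonoidAlgebra.mapDomainBialgHom R (QuotientGroup.kerLift (glHom q)))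

lemma quotLift_mapDomain (q : MonoidAlgebra R M →ₐc[R] Y) (y : MonoidAlgebra R M) :
    quotLift q (MonoidAlgebra.mapDomainBialgHom R (QuotientGroup.mk' (glHom q).ker) y) = q y := by
  induction y using MonoidAlgebra.induction_linear with
  | zero => simp
  | add x y hx hy => rw [map_add, map_add, hx, hy, map_add]
  | single m r =>
    have e1 : (MonoidAlgebra.single m r : MonoidAlgebra R M) = r • MonoidAlgebra.single m 1 := by
      rw [MonoidAlgebra.smul_single, smul_eq_mul, mul_one]
    rw [e1, map_smul, map_smul, map_smul]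
    congr 1
    simp [quotLift, MonoidAlgebra.liftGroupLikeBialgHom, glHom_val]

lemma mapDomain_mk_surjective (N : Subgroup M) :
    Function.Surjective (MonoidAlgebra.mapDomainBialgHom R (QuotientGroup.mk' N)) := by
  intro x
  induction x using MonoidAlgebra.induction_linear with
  | zero => exact ⟨0, map_zero _⟩
  | add x y hx hy =>
    obtain ⟨x', rfl⟩ := hx
    obtain ⟨y', rfl⟩ := hy
    exact ⟨x' + y', map_add _ _ _⟩
  | single m r =>
    obtain ⟨m', rfl⟩ := QuotientGroup.mk'_surjective N m
    exact ⟨MonoidAlgebra.single m' r, by simp⟩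

/-- A quotient of a group algebra whose kernel dies in `R[M ⧸ N]` is `R[M ⧸ N]`. -/
theorem isDiag_of_ker_le (q : MonoidAlgebra R M →ₐc[R] Y) (hq : Function.Surjective q)
    (hker : ∀ z : MonoidAlgebra R M, q z = 0 →
      MonoidAlgebra.mapDomainBialgHom R (QuotientGroup.mk' (glHom q).ker) z = 0) :
    IsDiag R Y := by
  refine ⟨M ⧸ (glHom q).ker, inferInstance, ⟨(BialgEquiv.ofBijective (quotLift q) ⟨?_, ?_⟩).symm⟩⟩
  · rw [injective_iff_map_eq_zero]
    intro x hx
    obtain ⟨y, rfl⟩ := mapDomain_mk_surjective (R := R) (glHom q).ker x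
    rw [quotLift_mapDomain] at hx
    exact hker y hx
  · intro y
    obtain ⟨z, rfl⟩ := hq y
    exact ⟨_, quotLift_mapDomain q z⟩

end QuotDiag

section Tors

variable {R : Type u} [CommRing R] {A : Type u} [CommRing A] [HopfAlgebra R A]

lemma powConv_quotient_trivial (n : ℕ) (J : Ideal A) [J.IsHopfIdeal R]
    (hJ : J = torsionIdeal R A n) (b : A ⧸ J) :
    powConv R (A ⧸ J) n b = algebraMap R (A ⧸ J) (counit (R := R) b) := by
  obtain ⟨a, rfl⟩ := Ideal.Quotient.mk_surjective b
  have h0 : (Ideal.Quotient.mk J a) = Bialgebra.Quotient.mkBialgHom (R := R) J a := rfl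
  rw [h0, ← bialgHom_powConv, CoalgHomClass.counit_comp_apply]
  have h1 : a - algebraMap R A (counit (R := R) a) ∈
      RingHom.ker (Bialgebra.counitAlgHom R A) := by
    rw [RingHom.mem_ker, map_sub]
    simp
  have h2 : powConv R A n (a - algebraMap R A (counit (R := R) a)) ∈ J := by
    rw [hJ]
    exact Ideal.mem_map_of_mem _ h1
  rw [map_sub, AlgHom.commutes] at h2
  have h3 := (Ideal.Quotient.eq (I := J)).mpr h2
  show Ideal.Quotient.mk J (powConv R A n a) = _
  rw [h3]
  rfl

lemma powConv_diag_trivial {R' : Type u} [CommRing R'] {M : Type u} [CommGroup M] (n : ℕ)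
    (hM : ∀ m : M, m ^ n = 1) (w : MonoidAlgebra R' M) :
    powConv R' (MonoidAlgebra R' M) n w = algebraMap R' _ (counit (R := R') w) := by
  induction w using MonoidAlgebra.induction_linear with
  | zero => simp
  | add x y hx hy => rw [map_add, hx, hy, map_add, map_add]
  | single m r =>
    rw [powConv_single, hM, MonoidAlgebra.counit_single, CommSemiring.counit_apply]
    rfl

/-- In a chart, the quotient by the torsion ideal is diagonalisable. -/
theorem isDiag_quotient_torsion (n : ℕ) (J : Ideal A) [J.IsHopfIdeal R]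
    (hJ : J = torsionIdeal R A n) (R' : Type u) [CommRing R'] [Algebra R R']
    (hd : IsDiag R' (R' ⊗[R] A)) : IsDiag R' (R' ⊗[R] (A ⧸ J)) := by
  obtain ⟨M, _, ⟨e⟩⟩ := hd
  let q₀ : R' ⊗[R] A →ₐc[R'] R' ⊗[R] (A ⧸ J) :=
    Bialgebra.TensorProduct.map (BialgHom.id R' R') (Bialgebra.Quotient.mkBialgHom (R := R) J)
  let q : MonoidAlgebra R' M →ₐc[R'] R' ⊗[R] (A ⧸ J) :=
    q₀.comp (e.symm : MonoidAlgebra R' M →ₐc[R'] R' ⊗[R] A)
  have hq₀ : Function.Surjective q₀ := by
    intro z
    induction z using TensorProduct.induction_on with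
    | zero => exact ⟨0, map_zero _⟩
    | tmul r a =>
      obtain ⟨a', rfl⟩ := Ideal.Quotient.mk_surjective a
      exact ⟨r ⊗ₜ a', rfl⟩
    | add z w hz hw =>
      obtain ⟨z', rfl⟩ := hz
      obtain ⟨w', rfl⟩ := hw
      exact ⟨z' + w', map_add _ _ _⟩
  have hq : Function.Surjective q := by
    intro y
    obtain ⟨x, rfl⟩ := hq₀ y
    exact ⟨e x, by simp [q]⟩
  -- the power map of `R' ⊗ (A ⧸ J)` is trivial
  have htriv : ∀ b : R' ⊗[R] (A ⧸ J), powConv R' (R' ⊗[R] (A ⧸ J)) n b =
      algebraMap R' _ (counit (R := R') b) :=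
    powConv_baseChange_trivial (A := A ⧸ J) R' n (powConv_quotient_trivial n J hJ)
  -- hence `M ⧸ N` has exponent `n`
  have hexp : ∀ m : M ⧸ (glHom q).ker, m ^ n = 1 := by
    intro m
    obtain ⟨m', rfl⟩ := QuotientGroup.mk'_surjective _ m
    rw [← map_pow, QuotientGroup.mk'_apply, QuotientGroup.eq_one_iff, mem_ker_glHom,
      ← powConv_single, bialgHom_powConv, htriv, CoalgHomClass.counit_comp_apply]
    simp [Algebra.TensorProduct.one_def]
  apply isDiag_of_ker_le q hq
  intro z hz
  have hz' : e.symm z ∈ RingHom.ker (Algebra.TensorProduct.map (AlgHom.id R R')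
      (Ideal.Quotient.mkₐ R J)) := by
    rw [RingHom.mem_ker]
    exact hz
  rw [Algebra.TensorProduct.lTensor_ker _ (Ideal.Quotient.mkₐ_surjective R J)] at hz'
  -- the ring hom `ρ : R' ⊗ A → R'[M ⧸ N]`
  let ρ : R' ⊗[R] A →ₐc[R'] MonoidAlgebra R' (M ⧸ (glHom q).ker) :=
    (MonoidAlgebra.mapDomainBialgHom R' (QuotientGroup.mk' (glHom q).ker)).comp
      (e : R' ⊗[R] A →ₐc[R'] MonoidAlgebra R' M)
  have hρ : Ideal.map (Algebra.TensorProduct.includeRight : A →ₐ[R] R' ⊗[R] A)
      (RingHom.ker (Ideal.Quotient.mkₐ R J)) ≤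
        RingHom.ker (ρ : R' ⊗[R] A →ₐ[R'] MonoidAlgebra R' (M ⧸ (glHom q).ker)) := by
    have hJle : J ≤ Ideal.comap (Algebra.TensorProduct.includeRight : A →ₐ[R] R' ⊗[R] A)
        (RingHom.ker (ρ : R' ⊗[R] A →ₐ[R'] MonoidAlgebra R' (M ⧸ (glHom q).ker))) := by
      refine (le_of_eq hJ).trans ?_
      rw [torsionIdeal, Ideal.map_le_iff_le_comap]
      intro a ha
      rw [RingHom.mem_ker] at ha
      have ha' : counit (R := R) a = 0 := ha
      rw [Ideal.mem_comap, Ideal.mem_comap, RingHom.mem_ker]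
      show ρ ((1 : R') ⊗ₜ[R] powConv R A n a) = 0
      rw [← powConv_one_tmul, bialgHom_powConv, powConv_diag_trivial n hexp,
        CoalgHomClass.counit_comp_apply, counit_one_tmul, ha', map_zero, map_zero]
    rw [Ideal.map_le_iff_le_comap]
    intro a ha
    apply hJle
    rw [RingHom.mem_ker] at ha
    exact Ideal.Quotient.eq_zero_iff_mem.mp ha
  have := hρ hz'
  rw [RingHom.mem_ker] at this
  simpa [ρ] using this

theorem torsion_isMultType (h : IsMultType R A) (n : ℕ) (J : Ideal A) [J.IsHopfIdeal R]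
    (hJ : J = torsionIdeal R A n) : IsMultType R (A ⧸ J) := by
  obtain ⟨s, hs, H⟩ := h
  refine ⟨s, hs, fun f hf => ?_⟩
  obtain ⟨R', _, _, hff, hd⟩ := H f hf
  refine ⟨R', inferInstance, inferInstance, hff, ?_⟩
  letI : Algebra R R' :=
    ((algebraMap (Localization.Away f) R').comp (algebraMap R (Localization.Away f))).toAlgebra
  haveI : IsScalarTower R (Localization.Away f) R' := IsScalarTower.of_algebraMap_eq' rfl
  apply IsDiag.to_tower (Localization.Away f) R'
  exact isDiag_quotient_torsion n J hJ R' (IsDiag.of_tower (Localization.Away f) R' hd)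

theorem torsion_isMultType_and_finite (hft : Algebra.FiniteType R A) (h : IsMultType R A) (n : ℕ)
    (hn : 0 < n) (J : Ideal A) [J.IsHopfIdeal R] (hJ : J = torsionIdeal R A n) :
    IsMultType R (A ⧸ J) ∧ Module.Finite R (A ⧸ J) := by
  have h' := torsion_isMultType h n J hJ
  refine ⟨h', ?_⟩
  have hft' : Algebra.FiniteType R (A ⧸ J) :=
    hft.of_surjective (Ideal.Quotient.mkₐ R J) (Ideal.Quotient.mkₐ_surjective R J)
  apply finite_of_torsionIdeal_eq_bot hft' h' n hn
  rw [torsionIdeal_eq_bot_iff]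
  exact powConv_quotient_trivial n J hJ

end Tors

end Groth.Agent.Lib.Helper6.Isotriv
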